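import Cfsg.Agent.H133.PB.Basic
import Cfsg.Agent.H816.IMM
import Cfsg.Agent.H568.SC.Mon

/-!
# S4826, the Monster: the principal 59-block (helper693)

* `bd_59` : `BD p 59 M` for `p = 2, 7, 11, 23, 29, 31, 41, 71`: the character of degree
  `18538750076 = 2^2.7.11.23.29.31.41.71` (helper816) and the self-centralizing elements of order 59 (helper568).
-/

set_option autoImplicit false

namespace Cfsg.Agent.H693.PB.MFiftyNine

open Cfsg Cfsg.Agent.H133.PB

universe u

theorem bd_59 (hK : Cfsg.Agent.H995.CopEngine.AllKnown.{0}) {p : ℕ} (hp : p ∣ 18538750076) :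
    BD p 59 Spor.Monster := by
  have hc : Nat.card Spor.Monster = 808017424794512875886459904961710757005754368000000000 :=
    H816.IMM.card_eq (S := Spor.Monster) ⟨MulEquiv.refl _⟩
  have : Finite Spor.Monster := Nat.finite_of_card_ne_zero (by rw [hc]; norm_num)
  have : Fact (Nat.Prime 59) := ⟨by norm_num⟩
  obtain ⟨g, hg⟩ := exists_prime_orderOf_dvd_card' (G := Spor.Monster) 59 (by rw [hc]; norm_num)
  have hC : Nat.card (Subgroup.centralizer ({g} : Set Spor.Monster)) = 59 := H568.SC.Mon.sc hK g hg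
  obtain ⟨Q, hQ⟩ := isPGroup_centralizer_sylow (q := 59) (g := g)
    (IsPGroup.of_card (n := 1) (by rw [hC, pow_one])) ⟨1, by rw [hg, pow_one]⟩
  obtain ⟨χ, h1, h2⟩ := H816.IMM.exists_chi_18538750076 (S := Spor.Monster) ⟨MulEquiv.refl _⟩
  have h3 : charDegree χ = 18538750076 :=
    Cfsg.Agent.Blocks.Basic.charDegree_of_eq (by rw [h2]; norm_num)
  exact BD.of_sylow Q hQ ⟨χ, h1⟩ (by
    show ¬ 59 ∣ charDegree χ
    rw [h3]; norm_num) (by
    show p ∣ charDegree χ
    rw [h3]; exact hp)

end Cfsg.Agent.H693.PB.MFiftyNine
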