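import Cfsg.Prelude.Def_Blocks
import Cfsg.Prelude.Def_Characters
import Mathlib

/-!
# S4826: the interface (helper693)

* `Row p S` : some principal `q`-block of `S`, `q ≠ p` prime, contains an irreducible character of degree divisible by `p`.
* `Cop S` : an automorphism of `S` of prime order not dividing `|S|` moves the class of some element of prime power order.
* `Facts` : `Row p S` for all nonabelian simple `S`, `p ∣ |S|`, and `Cop S`.
-/

set_option autoImplicit false

open Cfsg

namespace Cfsg.Agent.H693.PB

universe u v

/-- some principal `q`-block of `S`, `q ≠ p`, contains an irreducible character of degree divisible by `p` -/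
def Row (p : ℕ) (S : Type u) [Group S] : Prop :=
  ∃ q : ℕ, q.Prime ∧ q ≠ p ∧ q ∣ Nat.card S ∧ ∀ M : Ideal AlgInt, IsPModular q M →
    ∃ θ : IrrCharacter S, θ ∈ principalBlock M S ∧ p ∣ charDegree (θ : S → ℂ)

/-- an automorphism of prime order not dividing `|S|` moves the class of some element of prime power order -/
def Cop (S : Type u) [Group S] : Prop :=
  ∀ (p : ℕ) (x : MulAut S), p.Prime → ¬ p ∣ Nat.card S → orderOf x = p →
    ∃ g : S, (∃ q k : ℕ, q.Prime ∧ orderOf g = q ^ k) ∧ ¬ IsConj (x g) g

/-- the two facts on simple groups needed for S4826 -/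
def Facts : Prop :=
  ∀ (S : Type u) [Group S] [Finite S] [IsSimpleGroup S], ¬ IsMulCommutative S →
    (∀ p : ℕ, p.Prime → p ∣ Nat.card S → Row p S) ∧ Cop S

end Cfsg.Agent.H693.PB
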