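import Cfsg.Agent.H693.PB.Red
import Cfsg.Agent.H133.PB.LieOdd
import Cfsg.Agent.H133.PB.LieCross
import Cfsg.Agent.H732.PB.RowTwo
import Cfsg.Agent.H732.PB.Cop
import Cfsg.Agent.H912.KnownSplit

/-!
# S4826: the assembly of `Facts` from the families (helper693)

* `facts_of` : `Facts` from the classification, the Itô-Michler rows of the groups of Lie type and `Row p S` for the
  alternating groups, the Tits group and the sporadic groups.
-/

set_option autoImplicit false

namespace Cfsg.Agent.H693.PB

open Cfsg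

universe u v

/-- `Row p S` for all primes `p ∣ |S|` -/
def RowAll (S : Type u) [Group S] : Prop := ∀ p : ℕ, p.Prime → p ∣ Nat.card S → Row p S

theorem RowAll.of_equiv {S : Type u} [Group S] {T : Type v} [Group T] (e : S ≃* T) (h : RowAll T) :
    RowAll S := fun p hp hd => H133.PB.Row.of_equiv e (h p hp (by rwa [← Nat.card_congr e.toEquiv]))

/-- groups of Lie type -/
theorem rowAll_lie {S : Type u} [Group S] [Finite S] [IsSimpleGroup S] {r : ℕ} (hr : r.Prime)
    (h : IsLieTypeChar r S) (hIM : ∀ p : ℕ, p.Prime → p ≠ r → p ∣ Nat.card S → H33.IM p S) :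
    RowAll S := by
  intro p hp hd
  by_cases hpr : p = r
  · subst hpr
    by_cases hp2 : p = 2
    · subst hp2
      exact H732.PB.row_two_of_isLieTypeChar h
    · exact H133.PB.row_odd_of_isLieTypeChar hp hp2 h
  · exact H133.PB.row_cross hr hp hpr h (hIM p hp hpr hd)

/-- **`Facts` from the families** -/
theorem facts_of
    (hcl : ∀ (X : Type u) [Group X] [Finite X], IsSimpleGroup X → IsKnownSimple' X)
    (hIM : ∀ (S : Type u) [Group S] [Finite S], IsSimpleGroup S → ∀ r : ℕ, r.Prime → IsLieTypeChar r S →
      ∀ p : ℕ, p.Prime → p ≠ r → p ∣ Nat.card S → H33.IM p S)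
    (halt : ∀ (S : Type u) [Group S] [Finite S], IsSimpleGroup S → IsAlternating S → RowAll S)
    (htits : ∀ (S : Type u) [Group S] [Finite S], IsSimpleGroup S → Lie.IsoTits S → RowAll S)
    (hspor : ∀ (S : Type u) [Group S] [Finite S], IsSimpleGroup S → IsSporadicGroup S → RowAll S) :
    Facts.{u} := by
  intro S _ _ hs hna
  have hk := hcl S hs
  refine ⟨?_, H732.PB.cop_of_known hna hk⟩
  have hc : ¬ IsPrimeCyclic S := by
    intro h
    have h' : (Nat.card S).Prime := h
    have : Fact (Nat.card S).Prime := ⟨h'⟩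
    have := isCyclic_of_prime_card (α := S) rfl
    exact hna ⟨⟨fun a b => (IsCyclic.commGroup (α := S)).mul_comm a b⟩⟩
  rcases H912.Known.known_split hk hc with h | ⟨r, hr, h⟩ | h | h
  · exact halt S hs h
  · exact rowAll_lie hr h (hIM S hs r hr h)
  · exact htits S hs h
  · exact hspor S hs h

end Cfsg.Agent.H693.PB
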