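import Cfsg.Agent.H693.PB.Asm
import Cfsg.Agent.H33.IMLie
import Cfsg.Agent.H701.PBMathieu
import Cfsg.Agent.H521.PBJ
import Cfsg.Agent.H846.PB.JTwo
import Cfsg.Agent.H846.PB.HS
import Cfsg.Agent.H846.PB.McL
import Cfsg.Agent.H169.PBSuzRu
import Cfsg.Agent.H841.PB.FiTwentyTwo
import Cfsg.Agent.H841.PB.FiTwentyThree
import Cfsg.Agent.H353.PBFiTF
import Cfsg.Agent.H769.PB.RowCoTwo
import Cfsg.Agent.H769.PB.RowCoThree
import Cfsg.Agent.H995.PBCo
import Cfsg.Agent.H394.PBHe
import Cfsg.Agent.H394.PBHN
import Cfsg.Agent.H491.PB.Th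
import Cfsg.Agent.H680.PBONRow
import Cfsg.Agent.H799.PB.RowLy
import Cfsg.Agent.H877.PBJ4
import Cfsg.Agent.H488.PBRow.Tits
import Cfsg.Agent.H133.PB.Alt

/-!
# S4826: all rows except B and M (helper693)

* `facts_of_BM` : `Facts` from the classification and the rows of the Baby Monster and the Monster.
-/

set_option autoImplicit false

namespace Cfsg.Agent.H693.PB

open Cfsg

universe u

/-- the alternating groups -/
theorem rowAll_alt {S : Type u} [Group S] (h : IsAlternating S) : RowAll S := by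
  obtain ⟨n, hn, ⟨e⟩⟩ := h
  exact RowAll.of_equiv e fun p hp hd => H133.PB.row_alt hn hp hd

/-- the sporadic groups, from the rows of B and M -/
theorem rowAll_sporadic {S : Type u} [Group S] (hB : Spor.IsoB S → RowAll S) (hM : Spor.IsoM S → RowAll S)
    (h : IsSporadicGroup S) : RowAll S := by
  rcases h with h | h | h | h | h | h | h | h | h | h | h | h | h | h | h | h | h | h | h | h | h |
    h | h | h | h | h
  · exact fun p hp hd => H701.PBMathieu.row_m11 h hp hd
  · exact fun p hp hd => H701.PBMathieu.row_m12 h hp hd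
  · exact fun p hp hd => H701.PBMathieu.row_m22 h hp hd
  · exact fun p hp hd => H701.PBMathieu.row_m23 h hp hd
  · exact fun p hp hd => H701.PBMathieu.row_m24 h hp hd
  · exact fun p hp hd => H521.PBJ.row_j1 h hp hd
  · exact fun p hp hd => H846.PB.row_j2 h hp hd
  · exact fun p hp hd => H521.PBJ.row_j3 h hp hd
  · exact fun p hp hd => H877.PBJ4.row_j4 h hp hd
  · exact fun p hp hd => H995.PBCo.row_co1 h hp hd
  · exact fun p hp hd => H769.PB.RowCoTwo.row_co2 h hp hd
  · exact fun p hp hd => H769.PB.RowCoThree.row_co3 h hp hd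
  · exact fun p hp hd => H846.PB.row_mcl h hp hd
  · exact fun p hp hd => H846.PB.row_hs h hp hd
  · exact fun p hp hd => H169.PBSuzRu.row_suz h hp hd
  · exact fun p hp hd => H394.PBHe.row_he h hp hd
  · exact fun p hp hd => H169.PBSuzRu.row_ru h hp hd
  · exact fun p hp hd => H680.PBON.row_on h hp hd
  · exact fun p hp hd => H799.PB.row_ly h hp hd
  · exact fun p hp hd => H841.PB.row_fi22 h hp hd
  · exact fun p hp hd => H841.PB.row_fi23 h hp hd
  · exact fun p hp hd => H353.PBFiTF.row_fi24 h hp hd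
  · exact fun p hp hd => H394.PBHN.row_hn h hp hd
  · exact fun p hp hd => H491.PB.Th.row_th h hp hd
  · exact hB h
  · exact hM h

/-- **`Facts` from the classification and the rows of B and M** -/
theorem facts_of_BM (hcl : ∀ (X : Type u) [Group X] [Finite X], IsSimpleGroup X → IsKnownSimple' X)
    (hB : ∀ (S : Type u) [Group S], Spor.IsoB S → RowAll S)
    (hM : ∀ (S : Type u) [Group S], Spor.IsoM S → RowAll S) : Facts.{u} := by
  intro S _ _ hs hna
  have hk := hcl S hs
  refine ⟨?_, H732.PB.cop_of_known hna hk⟩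
  have hc : ¬ IsPrimeCyclic S := by
    intro h
    have h' : (Nat.card S).Prime := h
    have : Fact (Nat.card S).Prime := ⟨h'⟩
    have := isCyclic_of_prime_card (α := S) rfl
    exact hna ⟨⟨fun a b => (IsCyclic.commGroup (α := S)).mul_comm a b⟩⟩
  by_cases hsp : IsSporadicGroup S
  · exact rowAll_sporadic (hB S) (hM S) hsp
  rcases H912.Known.known_split hk hc with h | ⟨r, hr, h⟩ | h | h
  · exact rowAll_alt h
  · refine rowAll_lie hr h ?_
    intro p hp _ hd
    have : Fact p.Prime := ⟨hp⟩
    exact H33.im_nonsporadic hs hk hna hsp hd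
  · exact fun p hp hd => H488.PBRow.row_tits h hp hd
  · exact absurd h hsp

end Cfsg.Agent.H693.PB
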