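import Cfsg.Agent.H693.PB.RedA
import Cfsg.Agent.H364.ML

/-!
# S4826: the reduction to simple groups (helper693)

* `reduction` : `Facts` implies S4826.
-/

set_option autoImplicit false

open Cfsg

namespace Cfsg.Agent.H693.PB

universe u v

variable {p : ℕ} {G : Type u} [Group G]

/-- a normal Sylow `p`-subgroup -/
def Closed (p : ℕ) (G : Type u) [Group G] : Prop :=
  ∃ P : Subgroup G, P.Normal ∧ IsPGroup p P ∧ ¬ p ∣ P.index

/-- from a closed normal subgroup of index prime to `p` -/
theorem Closed.of_normal [Finite G] (hp : p.Prime) (K : Subgroup G) [hK : K.Normal] (hi : ¬ p ∣ K.index)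
    (h : Closed p K) : Closed p G := by
  have : Fact p.Prime := ⟨hp⟩
  obtain ⟨P, hPn, hP, hPi⟩ := h
  let Q : Sylow p K := hP.toSylow hPi
  have hQ : (Q : Subgroup K) = P := rfl
  have hQn : (Q : Subgroup K).Normal := hPn
  have hchar : (Q : Subgroup K).Characteristic := Sylow.characteristic_of_normal Q hQn
  rw [hQ] at hchar
  refine ⟨P.map K.subtype, inferInstance, hP.map _, ?_⟩
  rw [Subgroup.index_map_subtype]
  intro h
  rcases hp.dvd_mul.1 h with h | h
  · exact hPi h
  · exact hi h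

/-- a normal `p'`-subgroup of index a power of `p` centralized by all `p`-elements -/
theorem Closed.of_centralizes [Finite G] (hp : p.Prime) (N : Subgroup G) [N.Normal] {k : ℕ}
    (hN : N.index = p ^ k)
    (hC : ∀ x : G, (∃ j : ℕ, orderOf x = p ^ j) → ∀ y ∈ N, Commute x y) : Closed p G := by
  have : Fact p.Prime := ⟨hp⟩
  obtain ⟨P⟩ : Nonempty (Sylow p G) := inferInstance
  refine ⟨P, ?_, P.isPGroup', P.not_dvd_index⟩
  rw [← Subgroup.normalizer_eq_top_iff, ← Subgroup.index_eq_one]
  have h1 : N ≤ Subgroup.normalizer ((P : Subgroup G) : Set G) := by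
    intro y hy
    rw [Subgroup.mem_normalizer_iff]
    intro x
    have key : ∀ x ∈ (P : Subgroup G), y * x * y⁻¹ = x := by
      intro x hx
      have h2 : Commute x y := by
        apply hC x _ y hy
        obtain ⟨j, hj⟩ := P.isPGroup' ⟨x, hx⟩
        obtain ⟨i, -, hi⟩ := (Nat.dvd_prime_pow hp).1 (orderOf_dvd_of_pow_eq_one hj)
        exact ⟨i, by rw [← hi, Subgroup.orderOf_mk]⟩
      rw [← h2.eq, mul_assoc, mul_inv_cancel, mul_one]
    constructor
    · intro hx
      rw [key x hx]; exact hx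
    · intro hx
      have h2 := key _ hx
      have h3 : y * x * y⁻¹ = x := by
        have h4 : y * (y * x * y⁻¹) * y⁻¹ = y * x * y⁻¹ := h2
        have h5 : y * x * y⁻¹ = x := by
          have := congrArg (fun z => y⁻¹ * z * y) h4
          simpa [mul_assoc] using this
        exact h5
      rw [h3] at hx
      exact hx
  have h2 : (Subgroup.normalizer ((P : Subgroup G) : Set G)).index ∣ p ^ k :=
    hN ▸ Subgroup.index_dvd_of_le h1
  have h3 : (Subgroup.normalizer ((P : Subgroup G) : Set G)).index ∣ (P : Subgroup G).index :=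
    Subgroup.index_dvd_of_le Subgroup.le_normalizer
  obtain ⟨j, -, hj⟩ := (Nat.dvd_prime_pow hp).1 h2
  rcases Nat.eq_zero_or_pos j with h0 | h0
  · rw [hj, h0, pow_zero]
  · exfalso
    apply P.not_dvd_index
    exact (by rw [hj]; exact dvd_pow_self p h0.ne' : p ∣ _).trans h3

/-- conjugation by `x` on `N` has order `p` for some `x` if some `p`-element acts nontrivially -/
theorem exists_orderOf_conjNormal (hp : p.Prime) (N : Subgroup G) [N.Normal] {x : G}
    (hx : ∃ j : ℕ, orderOf x = p ^ j) (hne : (MulAut.conjNormal x : MulAut N) ≠ 1) :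
    ∃ y : G, orderOf (MulAut.conjNormal y : MulAut N) = p := by
  obtain ⟨j, hj⟩ := hx
  have h1 : orderOf (MulAut.conjNormal x : MulAut N) ∣ p ^ j := by
    rw [← hj]; exact orderOf_map_dvd (MulAut.conjNormal : G →* MulAut N) x
  obtain ⟨i, -, hi⟩ := (Nat.dvd_prime_pow hp).1 h1
  have hi0 : 0 < i := by
    rcases Nat.eq_zero_or_pos i with h0 | h0
    · exfalso
      rw [h0, pow_zero, orderOf_eq_one_iff] at hi
      exact hne hi
    · exact h0
  refine ⟨x ^ p ^ (i - 1), ?_⟩
  rw [map_pow, orderOf_pow_of_dvd (pow_ne_zero _ hp.ne_zero)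
    (by rw [hi]; exact pow_dvd_pow p (Nat.sub_le i 1)), hi]
  obtain ⟨m, rfl⟩ : ∃ m, i = m + 1 := ⟨i - 1, by omega⟩
  rw [Nat.add_sub_cancel, pow_succ, Nat.mul_div_cancel_left _ (pow_pos hp.pos m)]

/-- the action of the product of commuting subgroups on one factor is inner -/
theorem exists_inner {m : ℕ} (S : Fin m → Subgroup G)
    (hcomm : ∀ i j, i ≠ j → ∀ x ∈ S i, ∀ y ∈ S j, Commute x y) (i : Fin m) {n : G}
    (hn : n ∈ ⨆ j, S j) : ∃ t ∈ S i, ∀ g ∈ S i, n * g * n⁻¹ = t * g * t⁻¹ := by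
  refine Subgroup.iSup_induction S (C := fun n => ∃ t ∈ S i, ∀ g ∈ S i, n * g * n⁻¹ = t * g * t⁻¹)
    hn ?_ ?_ ?_
  · intro j x hx
    by_cases hij : j = i
    · subst hij
      exact ⟨x, hx, fun g _ => rfl⟩
    · refine ⟨1, (S i).one_mem, fun g hg => ?_⟩
      have h1 : x * g = g * x := (hcomm j i hij x hx g hg).eq
      rw [h1, mul_assoc, mul_inv_cancel, mul_one, one_mul, inv_one, mul_one]
  · exact ⟨1, (S i).one_mem, fun g _ => rfl⟩
  · rintro x y ⟨t, ht, h1⟩ ⟨s, hs, h2⟩
    refine ⟨t * s, (S i).mul_mem ht hs, fun g hg => ?_⟩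
    have h3 : s * g * s⁻¹ ∈ S i := (S i).mul_mem ((S i).mul_mem hs hg) ((S i).inv_mem hs)
    calc x * y * g * (x * y)⁻¹ = x * (y * g * y⁻¹) * x⁻¹ := by group
      _ = x * (s * g * s⁻¹) * x⁻¹ := by rw [h2 g hg]
      _ = t * (s * g * s⁻¹) * t⁻¹ := h1 _ h3
      _ = t * s * g * (t * s)⁻¹ := by group

/-- `G`-conjugation on the `q`-elements of a factor of `N`, `q ≠ p`, is inner -/
theorem H.exists_factor [Finite G] (hp : p.Prime) (h : H p G) (N : Subgroup G) [N.Normal] {k : ℕ}
    (hN : N.index = p ^ k) {m : ℕ} (S : Fin m → Subgroup G) (hSN : ∀ i, S i ≤ N)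
    (hcomm : ∀ i j, i ≠ j → ∀ x ∈ S i, ∀ y ∈ S j, Commute x y) (hsup : ⨆ i, S i = N) (i : Fin m)
    {q : ℕ} (hq : q.Prime) (hqp : q ≠ p) {g : G} (hg : g ∈ S i) (ho : ∃ j : ℕ, orderOf g = q ^ j)
    (x : G) : ∃ t ∈ S i, x * g * x⁻¹ = t * g * t⁻¹ := by
  have h1 := h.isConj hp hq hqp N hN ⟨g, hSN i hg⟩ (by
    obtain ⟨j, hj⟩ := ho
    exact ⟨j, by rw [← hj, Subgroup.orderOf_mk]⟩) x
  obtain ⟨c, hc⟩ := isConj_iff.1 h1.symm
  have h2 : (c : G) * g * (c : G)⁻¹ = x * g * x⁻¹ := by
    have := congrArg (Subtype.val : N → G) hc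
    rw [MulAut.conjNormal_apply] at this
    exact this
  obtain ⟨t, ht, h3⟩ := exists_inner S hcomm i (n := (c : G)) (by rw [hsup]; exact c.2)
  exact ⟨t, ht, by rw [← h2, h3 g hg]⟩

/-- elements of `N` normalize the factors -/
theorem normalizes_factor {m : ℕ} (S : Fin m → Subgroup G)
    (hcomm : ∀ i j, i ≠ j → ∀ x ∈ S i, ∀ y ∈ S j, Commute x y) (i : Fin m) {n : G}
    (hn : n ∈ ⨆ j, S j) {g : G} (hg : g ∈ S i) : n * g * n⁻¹ ∈ S i := by
  obtain ⟨t, ht, h1⟩ := exists_inner S hcomm i hn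
  rw [h1 g hg]
  exact (S i).mul_mem ((S i).mul_mem ht hg) ((S i).inv_mem ht)

/-- every `x` normalizes the factors -/
theorem H.normalizes [Finite G] (hp : p.Prime) (h : H p G) (N : Subgroup G) [hNn : N.Normal] {k : ℕ}
    (hN : N.index = p ^ k) (hpN : ¬ p ∣ Nat.card N) {m : ℕ} (S : Fin m → Subgroup G)
    (hSN : ∀ i, S i ≤ N) (hs : ∀ i, IsSimpleGroup (S i))
    (hcomm : ∀ i j, i ≠ j → ∀ x ∈ S i, ∀ y ∈ S j, Commute x y) (hsup : ⨆ i, S i = N) (i : Fin m)
    (x : G) : ∀ g ∈ S i, x * g * x⁻¹ ∈ S i := by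
  by_contra hc
  let T : Subgroup G := (S i).map (MulAut.conj x).toMonoidHom
  have hT : ∀ g, g ∈ T ↔ x⁻¹ * g * x ∈ S i := by
    intro g
    constructor
    · rintro ⟨y, hy, rfl⟩
      have : x⁻¹ * (x * y * x⁻¹) * x = y := by group
      show x⁻¹ * (x * y * x⁻¹) * x ∈ S i
      rwa [this]
    · intro hg
      refine ⟨_, hg, ?_⟩
      show x * (x⁻¹ * g * x) * x⁻¹ = g
      group
  have hTn : ∀ n ∈ N, ∀ g ∈ T, n * g * n⁻¹ ∈ T := by
    intro n hn g hg
    rw [hT] at hg ⊢
    have h1 : x⁻¹ * n * x ∈ ⨆ j, S j := by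
      rw [hsup]
      have := hNn.conj_mem n hn x⁻¹
      rwa [inv_inv] at this
    have h2 := normalizes_factor S hcomm i h1 hg
    have h3 : x⁻¹ * n * x * (x⁻¹ * g * x) * (x⁻¹ * n * x)⁻¹ = x⁻¹ * (n * g * n⁻¹) * x := by group
    rwa [h3] at h2
  have hD : ((S i ⊓ T).subgroupOf (S i)).Normal := by
    refine ⟨fun a ha b => ?_⟩
    rw [Subgroup.mem_subgroupOf] at ha ⊢
    refine ⟨(S i).mul_mem ((S i).mul_mem b.2 ha.1) ((S i).inv_mem b.2), hTn _ (hSN i b.2) _ ha.2⟩
  rcases (hs i).eq_bot_or_eq_top_of_normal _ hD with h1 | h1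
  · -- trivial intersection
    have hbot : S i ⊓ T = ⊥ := by
      rw [Subgroup.subgroupOf_eq_bot] at h1
      rw [eq_bot_iff]
      intro y hy
      exact (Subgroup.disjoint_def.1 h1) hy hy.1
    have hne : Nat.card (S i) ≠ 1 := by
      have := (hs i).toNontrivial
      exact Finite.one_lt_card.ne'
    obtain ⟨q, hq, hqS⟩ := Nat.exists_prime_and_dvd hne
    have : Fact q.Prime := ⟨hq⟩
    obtain ⟨g, hg⟩ := exists_prime_orderOf_dvd_card' (G := S i) q hqS
    have hqp : q ≠ p := by
      rintro rfl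
      exact hpN (hqS.trans (Subgroup.card_dvd_of_le (hSN i)))
    obtain ⟨t, ht, h2⟩ := h.exists_factor hp N hN S hSN hcomm hsup i hq hqp g.2
      ⟨1, by rw [pow_one, Subgroup.orderOf_coe, hg]⟩ x
    have h3 : x * (g : G) * x⁻¹ ∈ S i ⊓ T := by
      refine ⟨?_, (hT _).2 ?_⟩
      · rw [h2]; exact (S i).mul_mem ((S i).mul_mem ht g.2) ((S i).inv_mem ht)
      · have : x⁻¹ * (x * (g : G) * x⁻¹) * x = g := by group
        rw [this]; exact g.2
    rw [hbot, Subgroup.mem_bot] at h3
    have h4 : (g : G) = 1 := by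
      have : (g : G) = x⁻¹ * (x * (g : G) * x⁻¹) * x := by group
      rw [this, h3]; group
    have h5 : g = 1 := Subtype.ext h4
    rw [h5, orderOf_one] at hg
    exact hq.one_lt.ne hg
  · -- equal
    rw [Subgroup.subgroupOf_eq_top] at h1
    have h2 : S i ≤ T := h1.trans inf_le_right
    have h3 : Nat.card T = Nat.card (S i) :=
      (Nat.card_congr ((S i).equivMapOfInjective _ (MulAut.conj x).injective).toEquiv).symm
    have h4 : S i = T := Subgroup.eq_of_le_of_card_ge h2 h3.le
    apply hc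
    intro g hg
    have h5 : x * g * x⁻¹ ∈ T := (hT _).2 (by
      have : x⁻¹ * (x * g * x⁻¹) * x = g := by group
      rwa [this])
    rwa [← h4] at h5

/-- no element acts with order `p` on the product of the factors -/
theorem H.no_order [Finite G] (hp : p.Prime) (h : H p G) (N : Subgroup G) [hNn : N.Normal] {k : ℕ}
    (hN : N.index = p ^ k) (hpN : ¬ p ∣ Nat.card N) {m : ℕ} (S : Fin m → Subgroup G)
    (hSN : ∀ i, S i ≤ N) (hs : ∀ i, IsSimpleGroup (S i)) (hcop : ∀ i, Cop (S i))
    (hcomm : ∀ i j, i ≠ j → ∀ x ∈ S i, ∀ y ∈ S j, Commute x y) (hsup : ⨆ i, S i = N)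
    (x : G) : orderOf (MulAut.conjNormal x : MulAut N) ≠ p := by
  intro hx
  have hnorm : ∀ i, ∀ g ∈ S i, x * g * x⁻¹ ∈ S i :=
    fun i => h.normalizes hp N hN hpN S hSN hs hcomm hsup i x
  have hxn : ∀ i, x ∈ Subgroup.normalizer ((S i : Subgroup G) : Set G) := by
    intro i
    rw [Subgroup.mem_normalizer_iff]
    intro g
    refine ⟨hnorm i g, fun hg => ?_⟩
    have h1 : x⁻¹ * (x * g * x⁻¹) * x⁻¹⁻¹ ∈ S i :=
      h.normalizes hp N hN hpN S hSN hs hcomm hsup i x⁻¹ _ hg
    have h2 : x⁻¹ * (x * g * x⁻¹) * x⁻¹⁻¹ = g := by group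
    rwa [h2] at h1
  let α : ∀ i, MulAut (S i) := fun i => (S i).normalizerMonoidHom ⟨x, hxn i⟩
  have hα : ∀ i (g : S i), ((α i g : S i) : G) = x * (g : G) * x⁻¹ := fun i g => rfl
  have hpw : (MulAut.conjNormal (x ^ p) : MulAut N) = 1 := by
    rw [map_pow, ← hx, pow_orderOf_eq_one]
  have hαp : ∀ i, α i ^ p = 1 := by
    intro i
    have h1 : α i ^ p = (S i).normalizerMonoidHom (⟨x, hxn i⟩ ^ p) := (map_pow _ _ _).symm
    rw [h1]
    ext g
    have h2 := congrArg (fun f : MulAut N => ((f ⟨g, hSN i g.2⟩ : N) : G)) hpw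
    simp only [MulAut.conjNormal_apply, MulAut.one_apply] at h2
    exact h2
  have hex : ∃ i, α i ≠ 1 := by
    by_contra hall
    push Not at hall
    have h1 : ∀ n ∈ ⨆ j, S j, x * n * x⁻¹ = n := by
      intro n hn
      refine Subgroup.iSup_induction S (C := fun n => x * n * x⁻¹ = n) hn ?_ ?_ ?_
      · intro i g hg
        have h2 := hα i ⟨g, hg⟩
        rw [hall i] at h2
        exact h2.symm
      · group
      · intro a b ha hb
        calc x * (a * b) * x⁻¹ = (x * a * x⁻¹) * (x * b * x⁻¹) := by group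
          _ = a * b := by rw [ha, hb]
    have h2 : (MulAut.conjNormal x : MulAut N) = 1 := by
      ext g
      rw [MulAut.conjNormal_apply, MulAut.one_apply]
      exact h1 _ (by rw [hsup]; exact g.2)
    rw [h2, orderOf_one] at hx
    exact hp.one_lt.ne hx
  obtain ⟨i, hi⟩ := hex
  have hord : orderOf (α i) = p := by
    have : Fact p.Prime := ⟨hp⟩
    exact orderOf_eq_prime (hαp i) hi
  have hpS : ¬ p ∣ Nat.card (S i) := fun hd => hpN (hd.trans (Subgroup.card_dvd_of_le (hSN i)))
  obtain ⟨g, ⟨q, j, hq, hg⟩, hgc⟩ := hcop i p (α i) hp hpS hord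
  have hqp : q ≠ p := by
    rintro rfl
    apply hgc
    have h0 : j = 0 := by
      by_contra h0
      apply hpS
      have h1 : q ∣ orderOf g := by rw [hg]; exact dvd_pow_self q h0
      exact h1.trans (orderOf_dvd_natCard g)
    rw [h0, pow_zero, orderOf_eq_one_iff] at hg
    rw [hg, map_one]
  obtain ⟨t, ht, h1⟩ := h.exists_factor hp N hN S hSN hcomm hsup i hq hqp g.2
    ⟨j, by rw [Subgroup.orderOf_coe, hg]⟩ x
  apply hgc
  apply IsConj.symm
  rw [isConj_iff]
  refine ⟨⟨t, ht⟩, Subtype.ext ?_⟩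
  rw [hα i g, h1]
  rfl

/-- the reduction, main step -/
theorem closed_of_H (hF : Facts.{u}) (hp : p.Prime) : ∀ n : ℕ, ∀ (G : Type u) [Group G] [Finite G],
    Nat.card G = n → H p G → Closed p G := by
  intro n
  induction n using Nat.strong_induction_on with
  | _ n ih =>
    intro G _ _ hG h
    have hpf : Fact p.Prime := ⟨hp⟩
    by_cases htriv : (⊤ : Subgroup G) = ⊥
    · refine ⟨⊥, inferInstance, IsPGroup.of_bot, ?_⟩
      rw [← htriv, Subgroup.index_top]
      exact hp.one_lt.ne' ∘ Nat.dvd_one.1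
    obtain ⟨N, hNn, -, hN0, hmin⟩ := H364.exists_minimal_normal_le (⊤ : Subgroup G) inferInstance htriv
    -- the quotient
    have hlt : Nat.card (G ⧸ N) < n := by
      rw [← hG, ← Subgroup.index_eq_card]
      have h1 := Subgroup.card_mul_index N
      have h2 : 1 < Nat.card N := (Subgroup.one_lt_card_iff_ne_bot N).2 hN0
      have h3 : 0 < N.index := Nat.pos_of_ne_zero Subgroup.index_ne_zero_of_finite
      nlinarith
    obtain ⟨Q, hQn, hQ, hQi⟩ := ih _ hlt (G ⧸ N) rfl
      (h.of_surjective (QuotientGroup.mk' N) (QuotientGroup.mk'_surjective N))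
    let K : Subgroup G := Q.comap (QuotientGroup.mk' N)
    have hKi : K.index = Q.index :=
      Subgroup.index_comap_of_surjective _ (QuotientGroup.mk'_surjective N)
    by_cases hK : K = ⊤
    swap
    · have hKlt : Nat.card K < n := by
        rw [← hG]
        have h1 := Subgroup.card_mul_index K
        have h2 : K.index ≠ 1 := fun h2 => hK (Subgroup.index_eq_one.1 h2)
        have h3 : K.index ≠ 0 := Subgroup.index_ne_zero_of_finite
        have h4 : 0 < Nat.card K := Nat.card_pos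
        have h5 : 2 ≤ K.index := by omega
        nlinarith
      exact Closed.of_normal hp K (by rw [hKi]; exact hQi) (ih _ hKlt K rfl (h.normal K))
    -- now `G/N` is a `p`-group
    have hQt : Q = ⊤ := by
      rw [← Subgroup.index_eq_one, ← hKi, hK, Subgroup.index_top]
    obtain ⟨k, hk⟩ : ∃ k : ℕ, N.index = p ^ k := by
      rw [hQt] at hQ
      obtain ⟨k, hk⟩ := IsPGroup.iff_card.1 hQ
      exact ⟨k, by rw [Subgroup.index_eq_card, ← hk, Subgroup.card_top]⟩
    rcases H364.minimal_normal_cases2 N hN0 hmin with ⟨r, hr, hrN⟩ |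
      ⟨m, S, hm, hSN, hS, hSna, hSt, hScard, hScomm, hSsup⟩
    · by_cases hrp : r = p
      · subst hrp
        refine ⟨⊤, inferInstance, ?_, ?_⟩
        · obtain ⟨j, hj⟩ := IsPGroup.iff_card.1 hrN
          apply IsPGroup.of_card (n := j + k)
          rw [Subgroup.card_top, ← Subgroup.card_mul_index N, hj, hk, pow_add]
        · rw [Subgroup.index_top]
          exact hp.one_lt.ne' ∘ Nat.dvd_one.1
      · -- elementary abelian `r`-group
        have : Fact r.Prime := ⟨hr⟩
        have hNab : ∀ a b : N, a * b = b * a := by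
          have h1 : ((Subgroup.center N).map N.subtype) = N := by
            rcases hmin ((Subgroup.center N).map N.subtype) inferInstance
              (Subgroup.map_subtype_le _) with h1 | h1
            · exfalso
              rw [Subgroup.map_eq_bot_iff_of_injective _ N.subtype_injective] at h1
              have : Nontrivial N := (Subgroup.nontrivial_iff_ne_bot N).2 hN0
              have := hrN.center_nontrivial
              exact (Subgroup.nontrivial_iff_ne_bot _).1 this h1
            · exact h1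
          intro a b
          have h2 : (a : G) ∈ (Subgroup.center N).map N.subtype := by rw [h1]; exact a.2
          obtain ⟨c, hc, hca⟩ := h2
          have h3 : c = a := Subtype.ext hca
          rw [h3] at hc
          exact ((Subgroup.mem_center_iff.1 hc) b).symm
        refine Closed.of_centralizes hp N hk fun x _ y hy => ?_
        obtain ⟨j, hj⟩ := hrN ⟨y, hy⟩
        obtain ⟨i, -, hi⟩ := (Nat.dvd_prime_pow hr).1 (orderOf_dvd_of_pow_eq_one hj)
        have h1 := h.isConj hp hr hrp N hk ⟨y, hy⟩ ⟨i, hi⟩ x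
        obtain ⟨c, hc⟩ := isConj_iff.1 h1
        rw [hNab c, mul_assoc, mul_inv_cancel, mul_one] at hc
        have h2 := congrArg (Subtype.val : N → G) hc
        rw [MulAut.conjNormal_apply] at h2
        have h3 : x * y * x⁻¹ = y := h2
        rw [Commute, SemiconjBy]
        calc x * y = x * y * x⁻¹ * x := by group
          _ = y * x := by rw [h3]
    · -- nonabelian simple factors
      have hfac : ∀ i, (∀ p : ℕ, p.Prime → p ∣ Nat.card (S i) → Row p (S i)) ∧ Cop (S i) := by
        intro i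
        have := hS i
        refine hF (S i) ?_
        intro hab
        exact hSna i fun a b => hab.is_comm.comm a b
      have hHS : ∀ i, H p (S i) := by
        intro i
        have hnor : ((S i).subgroupOf N).Normal := by
          refine ⟨fun a ha b => ?_⟩
          rw [Subgroup.mem_subgroupOf] at ha ⊢
          exact normalizes_factor S hScomm i (by rw [hSsup]; exact b.2) ha
        have h1 : H p ((S i).subgroupOf N) := (h.normal N).normal ((S i).subgroupOf N)
        exact h1.of_surjective (Subgroup.subgroupOfEquivOfLe (hSN i)).toMonoidHom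
          (Subgroup.subgroupOfEquivOfLe (hSN i)).surjective
      have hpN : ¬ p ∣ Nat.card N := fun hd =>
        (hHS ⟨0, hm⟩).not_row ((hfac ⟨0, hm⟩).1 p hp (hSt p hp hd ⟨0, hm⟩))
      refine Closed.of_centralizes hp N hk fun x hx y hy => ?_
      by_cases hx1 : (MulAut.conjNormal x : MulAut N) = 1
      · have h2 := congrArg (fun f : MulAut N => ((f ⟨y, hy⟩ : N) : G)) hx1
        simp only [MulAut.conjNormal_apply, MulAut.one_apply] at h2
        rw [Commute, SemiconjBy]
        calc x * y = x * y * x⁻¹ * x := by group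
          _ = y * x := by rw [h2]
      · exfalso
        obtain ⟨z, hz⟩ := exists_orderOf_conjNormal hp N hx hx1
        exact h.no_order hp N hk hpN S hSN hS (fun i => (hfac i).2) hScomm hSsup z hz

/-- **the reduction of S4826 to the simple groups** -/
theorem reduction (hF : Facts.{u}) {G : Type u} [Group G] [Finite G] (p : ℕ) [Fact p.Prime]
    (P : Sylow p G) :
    (P : Subgroup G).Normal ↔
      ∀ q : ℕ, q.Prime → q ≠ p → q ∣ Nat.card G → ∀ M : Ideal Cfsg.AlgInt, Cfsg.IsPModular q M →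
        ∀ χ : Cfsg.IrrCharacter G, χ ∈ Cfsg.principalBlock M G →
          ¬ p ∣ Cfsg.charDegree (χ : G → ℂ) := by
  have hp : p.Prime := Fact.out
  constructor
  · intro hP
    exact H.of_normal hp (P : Subgroup G) P.isPGroup' P.not_dvd_index
  · intro h
    obtain ⟨Q, hQn, hQ, hQi⟩ := closed_of_H hF hp (Nat.card G) G rfl h
    let Q' : Sylow p G := hQ.toSylow hQi
    have hQ' : (Q' : Subgroup G).Normal := hQn
    have := Sylow.unique_of_normal Q' hQ'
    rw [Subsingleton.elim P Q']
    exact hQ'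

end Cfsg.Agent.H693.PB
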