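import Cfsg.Agent.H693.PB.Defs
import Cfsg.Agent.H684.BlockTools
import Cfsg.Agent.H684.CoverCount
import Cfsg.Agent.H681.DegBasic
import Cfsg.Agent.S0887
import Cfsg.Agent.S0925
import Cfsg.Agent.Blocks.PrincipalKernel
import Cfsg.Agent.Blocks.Knorr
import Cfsg.Agent.Lib.MinNormal

/-!
# S4826: the condition on the principal blocks (helper693)

* `H p G` : the right-hand side of S4826;
* `H.of_surjective`, `H.normal` : it passes to quotients and normal subgroups;
* `H.isConj` : `N ⊴ G` of index a power of `p`: conjugation by `G` fixes the `N`-classes of `q`-elements, `q ≠ p`;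
* `H.of_normal` : the easy direction.
-/

set_option autoImplicit false

open Cfsg
open scoped ComplexConjugate

namespace Cfsg.Agent.H693.PB

open Cfsg.Agent.Characters.Core Cfsg.Agent.H684.BlockTools

universe u v

/-- the right-hand side of S4826 -/
def H (p : ℕ) (G : Type u) [Group G] : Prop :=
  ∀ q : ℕ, q.Prime → q ≠ p → q ∣ Nat.card G → ∀ M : Ideal AlgInt, IsPModular q M →
    ∀ χ : IrrCharacter G, χ ∈ principalBlock M G → ¬ p ∣ charDegree (χ : G → ℂ)

variable {p : ℕ} {G : Type u} [Group G]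

theorem H.not_row (h : H p G) (hr : Row p G) : False := by
  obtain ⟨q, hq, hqp, hqG, hB⟩ := hr
  have : Fact q.Prime := ⟨hq⟩
  obtain ⟨M, hM⟩ := Blocks.Knorr.exists_isPModular q
  obtain ⟨θ, hθ, hd⟩ := hB M hM
  exact h q hq hqp hqG M hM θ hθ hd

theorem H.of_surjective [Finite G] {K : Type v} [Group K] (h : H p G) (f : G →* K)
    (hf : Function.Surjective f) : H p K := by
  intro q hq hqp hqK M hM χ hχ hd
  have h1 : q ∣ Nat.card G := hqK.trans (Subgroup.card_dvd_of_surjective f hf)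
  have h2 := h q hq hqp h1 M hM (infl f hf χ) (infl_mem hM f hf hχ)
  apply h2
  have h3 : charDegree ((infl f hf χ : IrrCharacter G) : G → ℂ) = charDegree (χ : K → ℂ) := by
    unfold charDegree
    show ⌊((χ : K → ℂ) (f 1)).re⌋₊ = _
    rw [map_one]
  rwa [h3]

theorem H.normal [Finite G] (h : H p G) (N : Subgroup G) [N.Normal] : H p N := by
  classical
  intro q hq hqp hqN M hM θ hθ hd
  have : Fact q.Prime := ⟨hq⟩
  let _ : Fintype G := Fintype.ofFinite G
  let _ : Fintype N := Fintype.ofFinite N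
  obtain ⟨χ, hχ, hne⟩ := H684.CoverCount.exists_over hM N θ hθ
  have h1 := S0887.result N (χ : G → ℂ) χ.2 (θ : N → ℂ) θ.2 hne (charDegree (χ : G → ℂ))
    (charDegree (θ : N → ℂ)) (Blocks.Basic.irr_one_eq_charDegree χ.2) (Blocks.Basic.irr_one_eq_charDegree θ.2)
  exact h q hq hqp (hqN.trans (Subgroup.card_subgroup_dvd_card N)) M hM χ hχ (hd.trans h1.1)

/-- `N ⊴ G` of index a power of `p`: the members of the principal `q`-block of `N` are
`G`-invariant. -/
theorem H.invariant [Finite G] (hp : p.Prime) (h : H p G) {q : ℕ} (hq : q.Prime) (hqp : q ≠ p)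
    (N : Subgroup G) [N.Normal] {k : ℕ} (hN : N.index = p ^ k) (hqN : q ∣ Nat.card N)
    {M : Ideal AlgInt} (hM : IsPModular q M) (θ : IrrCharacter N) (hθ : θ ∈ principalBlock M N)
    (x : G) (g : N) : (θ : N → ℂ) ((MulAut.conjNormal x : MulAut N) g) = (θ : N → ℂ) g := by
  classical
  have : Fact q.Prime := ⟨hq⟩
  let _ : Fintype G := Fintype.ofFinite G
  let _ : Fintype N := Fintype.ofFinite N
  obtain ⟨χ, hχ, hne⟩ := H684.CoverCount.exists_over hM N θ hθ
  have h1 := S0887.result N (χ : G → ℂ) χ.2 (θ : N → ℂ) θ.2 hne (charDegree (χ : G → ℂ))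
    (charDegree (θ : N → ℂ)) (Blocks.Basic.irr_one_eq_charDegree χ.2)
    (Blocks.Basic.irr_one_eq_charDegree θ.2)
  have h2 := h q hq hqp (hqN.trans (Subgroup.card_subgroup_dvd_card N)) M hM χ hχ
  have h3 : charDegree (χ : G → ℂ) / charDegree (θ : N → ℂ) = 1 := by
    rw [hN] at h1
    obtain ⟨j, -, hj⟩ := (Nat.dvd_prime_pow hp).1 h1.2
    rcases Nat.eq_zero_or_pos j with h0 | h0
    · rw [hj, h0, pow_zero]
    · exfalso
      apply h2
      have h4 : p ∣ charDegree (χ : G → ℂ) / charDegree (θ : N → ℂ) := by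
        rw [hj]; exact dvd_pow_self p h0.ne'
      exact h4.trans (Nat.div_dvd_of_dvd h1.1)
  have h4 : charDegree (χ : G → ℂ) = charDegree (θ : N → ℂ) := by
    obtain ⟨c, hc⟩ := h1.1
    have hpos := Blocks.Basic.charDegree_pos θ.2
    rw [hc, Nat.mul_div_cancel_left _ hpos] at h3
    rw [hc, h3, mul_one]
  have h5 : (fun y : N => (χ : G → ℂ) y) = (θ : N → ℂ) := by
    refine H681.DegBasic.restrict_eq_of_degree N (Blocks.Basic.irr_isCharacter χ.2) θ.2 hne ?_
    rw [Blocks.Basic.irr_one_eq_charDegree χ.2, Blocks.Basic.irr_one_eq_charDegree θ.2, h4]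
  have h6 := congrFun h5 ((MulAut.conjNormal x : MulAut N) g)
  have h7 := congrFun h5 g
  rw [← h6, ← h7]
  show (χ : G → ℂ) (((MulAut.conjNormal x : MulAut N) g : N) : G) = (χ : G → ℂ) (g : G)
  rw [MulAut.conjNormal_apply]
  exact isIrr_isClassFunction χ.2 _ _

/-- `N ⊴ G` of index a power of `p`: conjugation by `G` fixes the `N`-classes of `q`-elements,
`q ≠ p`. -/
theorem H.isConj [Finite G] (hp : p.Prime) (h : H p G) {q : ℕ} (hq : q.Prime) (hqp : q ≠ p)
    (N : Subgroup G) [N.Normal] {k : ℕ} (hN : N.index = p ^ k) (g : N)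
    (hg : ∃ j : ℕ, orderOf g = q ^ j) (x : G) :
    IsConj ((MulAut.conjNormal x : MulAut N) g) g := by
  classical
  by_contra hc
  have : Fact q.Prime := ⟨hq⟩
  obtain ⟨M, hM⟩ := Blocks.Knorr.exists_isPModular q
  have hqN : q ∣ Nat.card N := by
    obtain ⟨j, hj⟩ := hg
    rcases Nat.eq_zero_or_pos j with h0 | h0
    · exfalso
      apply hc
      rw [h0, pow_zero, orderOf_eq_one_iff] at hj
      rw [hj, map_one]
    · have h1 : q ∣ orderOf g := by rw [hj]; exact dvd_pow_self q h0.ne'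
      exact h1.trans (orderOf_dvd_natCard g)
  have hg' : ∃ j : ℕ, orderOf ((MulAut.conjNormal x : MulAut N) g) = q ^ j := by
    obtain ⟨j, hj⟩ := hg
    exact ⟨j, by rw [← hj]; exact MulEquiv.orderOf_eq (MulAut.conjNormal x : MulAut N) g⟩
  have h1 := orth hM hg' hg hc
  have hfin := finite_principal (M := M) (G := N)
  let _ : Fintype (principalBlock M N) := Fintype.ofFinite _
  rw [finsum_mem_eq_finite_toFinset_sum _ (Set.toFinite _)] at h1
  have h2 : ∀ χ ∈ (Set.toFinite (principalBlock M N)).toFinset,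
      (χ : N → ℂ) ((MulAut.conjNormal x : MulAut N) g) * conj ((χ : N → ℂ) g) =
        ((‖(χ : N → ℂ) g‖ ^ 2 : ℝ) : ℂ) := by
    intro χ hχ
    rw [h.invariant hp hq hqp N hN hqN hM χ ((Set.Finite.mem_toFinset _).1 hχ) x g,
      Complex.mul_conj, Complex.normSq_eq_norm_sq]
  rw [Finset.sum_congr rfl h2, ← Complex.ofReal_sum, Complex.ofReal_eq_zero] at h1
  have h3 := (Finset.sum_eq_zero_iff_of_nonneg (fun χ _ => by positivity)).1 h1 (triv N)
    ((Set.Finite.mem_toFinset _).2 (triv_mem hM))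
  have h4 : ((triv N : IrrCharacter N) : N → ℂ) g = 1 := rfl
  rw [h4] at h3
  norm_num at h3

/-- the easy direction -/
theorem H.of_normal [Finite G] (hp : p.Prime) (P : Subgroup G) [P.Normal] (hP : IsPGroup p P)
    (hi : ¬ p ∣ P.index) : H p G := by
  classical
  intro q hq hqp _ M hM χ hχ hd
  have : Fact q.Prime := ⟨hq⟩
  have : Fact p.Prime := ⟨hp⟩
  let _ : Fintype G := Fintype.ofFinite G
  let _ : Fintype P := Fintype.ofFinite P
  have hqP : ¬ q ∣ Nat.card P := by
    obtain ⟨n, hn⟩ := IsPGroup.iff_card.1 hP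
    rw [hn]
    intro h1
    exact hqp ((Nat.prime_dvd_prime_iff_eq hq hp).1 (hq.dvd_of_dvd_pow h1))
  have h1 : (fun y : P => (χ : G → ℂ) y) = fun _ : P => (χ : G → ℂ) 1 := by
    funext y
    exact Blocks.PrincipalKernel.principalBlock_apply_eq hM hqP hχ y.2
  have hne : classInner (fun y : P => (χ : G → ℂ) y) ((triv P : IrrCharacter P) : P → ℂ) ≠ 0 := by
    rw [h1]
    have h2 : ((triv P : IrrCharacter P) : P → ℂ) = fun _ => 1 := rfl
    rw [h2]
    unfold classInner
    simp only [map_one, mul_one, Finset.sum_const, Finset.card_univ, nsmul_eq_mul]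
    rw [← Nat.card_eq_fintype_card, ← mul_assoc, inv_mul_cancel₀ (Nat.cast_ne_zero.2 Nat.card_pos.ne'),
      one_mul]
    exact isIrr_apply_one_ne_zero χ.2
  have h2 := S0887.result P (χ : G → ℂ) χ.2 ((triv P : IrrCharacter P) : P → ℂ) (triv P).2 hne
    (charDegree (χ : G → ℂ)) 1 (Blocks.Basic.irr_one_eq_charDegree χ.2) (by simp [triv])
  apply hi
  have h3 := h2.2
  rw [Nat.div_one] at h3
  exact hd.trans h3

end Cfsg.Agent.H693.PB
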