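import Cfsg.Agent.H626.MRow.Row
import Cfsg.Agent.H693.PB.MFiftyNine

/-!
# S4826, the Monster: the row (helper626, helper693)

* `row_m` : `Row p S` for the Monster, from the classification (used for the elements of order 59).
-/

set_option autoImplicit false

namespace Cfsg.Agent.H693.PB.RowM

open Cfsg Cfsg.Agent.H133.PB

universe u

theorem row_m (hK : Cfsg.Agent.H995.CopEngine.AllKnown.{0}) {S : Type u} [Group S] (h : Spor.IsoM S) {p : ℕ}
    (hp : p.Prime) (hd : p ∣ Nat.card S) : Row p S := by
  refine H626.MRow.row_of ?_ h hp hd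
  obtain ⟨e⟩ := Cfsg.Agent.MonsterP.Equiv.equiv
  have hc : Nat.card Spor.Monster = 808017424794512875886459904961710757005754368000000000 :=
    H816.IMM.card_eq (S := Spor.Monster) ⟨MulEquiv.refl _⟩
  exact Row.of_equiv e.symm (Row.intro (q := 59) (by norm_num) (by norm_num) (by rw [hc]; norm_num)
    (MFiftyNine.bd_59 hK (by norm_num)))

end Cfsg.Agent.H693.PB.RowM
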